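import Groth.Agent.Lib.MulSec9.Main
import Groth.Agent.Lib.SerrePn27.ExtHH
import Groth.Agent.Lib.SerrePn27.ExtAsymp
import Groth.Agent.Lib.Euler.Divisor
import Groth.Prelude.Def_ClSub2

/-!
# Multiplication of sections and restriction to a divisor
-/

set_option autoImplicit false
set_option linter.all false
set_option backward.isDefEq.respectTransparency false
set_option maxHeartbeats 1000000

universe u

open CategoryTheory CategoryTheory.Limits AlgebraicGeometry TopologicalSpace Opposite MonoidalCategory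

noncomputable section

namespace GrothLib.MulRestr29

variable {X : Scheme.{u}}

local notation "T" => DCoh.tensorBi (X := X)

theorem idealSeq_shortExact (I : X.IdealSheafData) :
    (ShortComplex.mk (ClSub.idealModι I) (ClSub.toSubscheme I) (kernel.condition _)).ShortExact :=
  haveI := Euler.epi_toSubscheme I
  haveI : Mono (ClSub.idealModι I) := inferInstanceAs (Mono (kernel.ι _))
  { exact := ShortComplex.exact_of_f_is_kernel _ (kernelIsKernel _) }

theorem tensor_left_shortExact {F : X.Modules} (hF : FlatMod.IsFlat F) {S : ShortComplex X.Modules}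
    (hS : S.ShortExact) : (S.map ((T).obj F)).ShortExact :=
  ShortComplex.shortExact_of_iso (S.mapNatIso ((OX.tensorBraiding (X := X)).app F))
    (OX.tensor_map_shortExact hF hS)

theorem ideal_tensor_quot (I : X.IdealSheafData) :
    ((T).map (ClSub.idealModι I)).app (ClSub.quotMod I) = 0 := by
  rw [← cancel_mono (OX.tensorUnitLeftIso (ClSub.quotMod I)).hom, zero_comp]
  refine ProjFormula.hom_ext_tmul fun U s t => ?_
  have h0 : (ClSub.toSubscheme I).app U ((ClSub.idealModι I).app U s) = 0 := by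
    have h := congrArg (fun φ => Scheme.Modules.Hom.app φ U s) (kernel.condition (ClSub.toSubscheme I))
    exact h
  show (DCoh.toP.map (OX.tensorUnitLeftIso (ClSub.quotMod I)).hom).app (op U)
    ((DCoh.toP.map (((T).map (ClSub.idealModι I)).app (ClSub.quotMod I))).app (op U)
      (OX.tmulSec (ClSub.idealMod I) (ClSub.quotMod I) U s t)) = 0
  rw [ProjFormula.map_left_tmulSec]
  refine (ProjFormula.tensorUnitLeftIso_tmulSec (ClSub.quotMod I) U ((ClSub.idealModι I).app U s) t).trans ?_
  change I.subschemeι.app U ((ClSub.idealModι I).app U s) *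
    (show Γ(I.subscheme, I.subschemeι ⁻¹ᵁ U) from t) = 0
  rw [show I.subschemeι.app U ((ClSub.idealModι I).app U s) = 0 from h0, zero_mul]

theorem ideal_tensor_mid (I : X.IdealSheafData) (E L : X.Modules) :
    ((T).map (((T).obj E).map (ClSub.idealModι I))).app (((T).obj L).obj (ClSub.quotMod I)) = 0 := by
  have z1 : ((T).map (ClSub.idealModι I)).app (((T).obj (ClSub.quotMod I)).obj L) = 0 := by
    have h := OX.tensorAssoc_natural₁ (ClSub.idealModι I) (ClSub.quotMod I) L
    change ((T).map (((T).map (ClSub.idealModι I)).app (ClSub.quotMod I))).app L ≫ _ =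
      _ ≫ ((T).map (ClSub.idealModι I)).app (((T).obj (ClSub.quotMod I)).obj L) at h
    rw [ideal_tensor_quot, Functor.map_zero, zero_app, zero_comp] at h
    exact (cancel_epi (OX.tensorAssoc _ _ L).hom).1 (h.symm.trans comp_zero.symm)
  have z2 : ((T).map (ClSub.idealModι I)).app (((T).obj L).obj (ClSub.quotMod I)) = 0 := by
    let e : ((T).obj L).obj (ClSub.quotMod I) ≅ ((T).obj (ClSub.quotMod I)).obj L :=
      (((OX.tensorBraiding (X := X)).app L).app (ClSub.quotMod I)).symm
    have h := ((T).map (ClSub.idealModι I)).naturality e.hom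
    rw [z1, comp_zero] at h
    exact (cancel_mono (((T).obj (Coh.structureModule X)).map e.hom)).1 (h.symm.trans zero_comp.symm)
  have h := OX.tensorAssoc_natural₂ E (ClSub.idealModι I) (((T).obj L).obj (ClSub.quotMod I))
  change ((T).map (((T).obj E).map (ClSub.idealModι I))).app _ ≫ _ =
    _ ≫ ((T).obj E).map (((T).map (ClSub.idealModι I)).app _) at h
  rw [z2, Functor.map_zero, comp_zero] at h
  exact (cancel_mono (OX.tensorAssoc E (Coh.structureModule X) _).hom).1 (h.trans zero_comp.symm)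

/-- The restriction of a module to the subscheme. -/
def res (I : X.IdealSheafData) (G : X.Modules) : G ⟶ ((T).obj G).obj (ClSub.quotMod I) :=
  (SerrePn27.tensorUnitRightIso G).inv ≫ ((T).obj G).map (ClSub.toSubscheme I)

/-- The ideal times a module, inside the module. -/
def inc (I : X.IdealSheafData) (G : X.Modules) : ((T).obj G).obj (ClSub.idealMod I) ⟶ G :=
  ((T).obj G).map (ClSub.idealModι I) ≫ (SerrePn27.tensorUnitRightIso G).hom

theorem inc_res (I : X.IdealSheafData) (G : X.Modules) : inc I G ≫ res I G = 0 := by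
  rw [inc, res, Category.assoc, Iso.hom_inv_id_assoc, ← Functor.map_comp]
  erw [kernel.condition]
  exact Functor.map_zero _ _ _

theorem res_shortExact (I : X.IdealSheafData) {G : X.Modules} (hG : FlatMod.IsFlat G) :
    (ShortComplex.mk (inc I G) (res I G) (inc_res I G)).ShortExact := by
  refine ShortComplex.shortExact_of_iso ?_ (tensor_left_shortExact hG (idealSeq_shortExact I))
  refine ShortComplex.isoMk (Iso.refl _) (SerrePn27.tensorUnitRightIso G) (Iso.refl _) ?_ ?_
  · exact Category.id_comp _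
  · show (SerrePn27.tensorUnitRightIso G).hom ≫ res I G = _ ≫ 𝟙 _
    rw [res, Iso.hom_inv_id_assoc, Category.comp_id]
    rfl

theorem isIso_res_tensor (I : X.IdealSheafData) (E L : X.Modules) :
    IsIso (((T).map (res I E)).app (((T).obj L).obj (ClSub.quotMod I))) := by
  let M := ((T).obj L).obj (ClSub.quotMod I)
  haveI : PreservesColimitsOfSize.{0, 0} ((T).obj E) := preservesColimitsOfSize_shrink.{0, u, 0, u} _
  haveI : PreservesColimitsOfSize.{0, 0} ((T).flip.obj M) := preservesColimitsOfSize_shrink.{0, u, 0, u} _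
  have hc := (idealSeq_shortExact I).gIsCokernel
  have h1 := CokernelCofork.mapIsColimit _ hc ((T).obj E ⋙ (T).flip.obj M)
  haveI : IsIso (((T).map (((T).obj E).map (ClSub.toSubscheme I))).app M) :=
    CokernelCofork.IsColimit.isIso_π _ h1 (ideal_tensor_mid I E L)
  rw [res, Functor.map_comp, NatTrans.comp_app]
  infer_instance

variable (k : Type u) [Field k] [X.Over (Spec (CommRingCat.of k))]

include k in
theorem surjective_app_of_H1 {S : ShortComplex X.Modules} (hS : S.ShortExact)
    (h1 : Subsingleton (Coh.HH X S.X₁ 1)) : Function.Surjective (S.g.app ⊤) := by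
  intro z
  obtain ⟨x, hx⟩ := (Cohom.exact₃ (A := k) hS 0 ((ProjCoh.H0top S.X₃).symm z)).1
    (@Subsingleton.elim _ h1 _ _)
  refine ⟨ProjCoh.H0top _ x, ?_⟩
  have h := congrArg (ProjCoh.H0top S.X₃) hx
  rw [AddEquiv.apply_symm_apply] at h
  exact (ProjCoh.H0top_map ((QCoh.toAbFun _).map S.g) x).symm.trans h

include k in
theorem exists_app_eq {S : ShortComplex X.Modules} (hS : S.ShortExact) (w : Γ(S.X₂, ⊤))
    (hw : S.g.app ⊤ w = 0) : ∃ v, S.f.app ⊤ v = w := by
  have h : Cohom.hhMap k S.g 0 ((ProjCoh.H0top S.X₂).symm w) = 0 := by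
    refine (ProjCoh.H0top S.X₃).injective ?_
    refine (ProjCoh.H0top_map ((QCoh.toAbFun _).map S.g) _).trans ?_
    rw [AddEquiv.apply_symm_apply, map_zero]
    exact hw
  obtain ⟨x, hx⟩ := (Cohom.exact₂ (A := k) hS 0 _).1 h
  refine ⟨ProjCoh.H0top _ x, ?_⟩
  have h' := congrArg (ProjCoh.H0top S.X₂) hx
  rw [AddEquiv.apply_symm_apply] at h'
  exact (ProjCoh.H0top_map ((QCoh.toAbFun _).map S.f) x).symm.trans h'

include k in
theorem mulMap_surjective (hreg : Subsingleton (Coh.HH X (Coh.structureModule X) 1))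
    (E : X.Modules) (hE : FlatMod.IsFlat E) (I : X.IdealSheafData) (L : X.Modules) (hL : FlatMod.IsFlat L)
    (hLI : ClSub.IsInverseOf L (ClSub.idealMod I))
    (h1 : Subsingleton (Coh.HH X (CohB1.tensorMod E (ClSub.idealMod I)) 1))
    (hD : Function.Surjective
      ((toSheafify (Opens.grothendieckTopology X) (CohB1.tensorPre (CohB1.tensorMod E (ClSub.quotMod I))
        (CohB1.tensorMod L (ClSub.quotMod I))).presheaf).app (op ⊤))) :
    Function.Surjective
      ((toSheafify (Opens.grothendieckTopology X) (CohB1.tensorPre E L).presheaf).app (op ⊤)) := by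
  obtain ⟨φ⟩ := hLI
  have hL1 : Subsingleton (Coh.HH X (((T).obj L).obj (ClSub.idealMod I)) 1) :=
    ((SerrePn27.hhMapEquiv (k := k) φ 1).toEquiv.subsingleton_congr).2 hreg
  have hEsur := surjective_app_of_H1 k (res_shortExact I hE) h1
  have hLsur := surjective_app_of_H1 k (res_shortExact I hL) hL1
  let EQ := ((T).obj E).obj (ClSub.quotMod I)
  let LQ := ((T).obj L).obj (ClSub.quotMod I)
  let A : ((T).obj E).obj L ⟶ ((T).obj E).obj LQ := ((T).obj E).map (res I L)
  let B : ((T).obj E).obj LQ ⟶ ((T).obj EQ).obj LQ := ((T).map (res I E)).app LQ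
  intro (z : Γ(CohB1.tensorMod E L, ⊤))
  -- products of sections
  let pr : (CohB1.tensorPre E L).obj (op ⊤) → Γ(CohB1.tensorMod E L, ⊤) :=
    fun y => ((SecTwist.toTensor E L).app (op ⊤)).hom y
  suffices hmain : ∃ y, pr y = z by
    obtain ⟨y, hy⟩ := hmain
    exact ⟨y, hy⟩
  obtain ⟨t, ht⟩ := hD (show Γ(CohB1.tensorMod (CohB1.tensorMod E (ClSub.quotMod I))
    (CohB1.tensorMod L (ClSub.quotMod I)), ⊤) from (A ≫ B).app ⊤ z)
  have hlift : ∀ t : (CohB1.tensorPre EQ LQ).obj (op ⊤), ∃ y,
      (A ≫ B).app ⊤ (pr y) = ((SecTwist.toTensor EQ LQ).app (op ⊤)).hom t := by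
    intro t
    induction t using TensorProduct.induction_on with
    | zero => exact ⟨0, by simp [pr]⟩
    | tmul a b =>
      obtain ⟨e, he⟩ := hEsur a
      obtain ⟨l, hl⟩ := hLsur b
      refine ⟨e ⊗ₜ l, ?_⟩
      show B.app ⊤ (A.app ⊤ (OX.tmulSec E L ⊤ e l)) = OX.tmulSec EQ LQ ⊤ a b
      refine (congrArg (B.app ⊤) (ProjFormula.map_right_tmulSec E (res I L) ⊤ e l)).trans ?_
      refine (ProjFormula.map_left_tmulSec (res I E) LQ ⊤ e _).trans ?_
      exact congrArg₂ (OX.tmulSec EQ LQ ⊤) he hl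
    | add a b ha hb =>
      obtain ⟨ya, hya⟩ := ha
      obtain ⟨yb, hyb⟩ := hb
      refine ⟨ya + yb, ?_⟩
      simp only [pr, map_add] at hya hyb ⊢
      rw [hya, hyb]
  obtain ⟨y₀, hy₀⟩ := hlift t
  haveI : IsIso B := isIso_res_tensor I E L
  have hA0 : A.app ⊤ (z - pr y₀) = 0 := by
    apply (ConcreteCategory.bijective_of_isIso (B.app ⊤)).1
    rw [map_zero]
    show (A ≫ B).app ⊤ (z - pr y₀) = 0
    rw [map_sub, sub_eq_zero, hy₀]
    exact ht.symm
  obtain ⟨v, hv⟩ := exists_app_eq k (tensor_left_shortExact hE (res_shortExact I hL)) (z - pr y₀) hA0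
  -- sections of `E ⊗ (L ⊗ I)` are single products
  let ψ : ((T).obj E).obj (((T).obj L).obj (ClSub.idealMod I)) ≅ E :=
    ((T).obj E).mapIso φ ≪≫ SerrePn27.tensorUnitRightIso E
  let one' : Γ(((T).obj L).obj (ClSub.idealMod I), ⊤) :=
    φ.inv.app ⊤ (show Γ(Coh.structureModule X, ⊤) from (1 : Γ(X, ⊤)))
  obtain ⟨e, he⟩ : ∃ e : Γ(E, ⊤), v = OX.tmulSec E (((T).obj L).obj (ClSub.idealMod I)) ⊤ e one' := by
    let σ := SerrePn27.tensorUnitRightIso E
    let v' := (((T).obj E).map φ.hom).app ⊤ v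
    obtain ⟨e, he⟩ : ∃ e : Γ(E, ⊤), v' = OX.tmulSec E (Coh.structureModule X) ⊤ e (1 : Γ(X, ⊤)) := by
      let β := ((OX.tensorBraiding (X := X)).app E).app (Coh.structureModule X)
      let v'' : Γ(((T).obj (Coh.structureModule X)).obj E, ⊤) := β.inv.app ⊤ v'
      refine ⟨(OX.tensorUnitLeftIso E).hom.app ⊤ v'', ?_⟩
      have h2 : v'' = OX.tmulSec (Coh.structureModule X) E ⊤ (1 : Γ(X, ⊤)) ((OX.tensorUnitLeftIso E).hom.app ⊤ v'') := by
        refine (ConcreteCategory.bijective_of_isIso ((OX.tensorUnitLeftIso E).hom.app ⊤)).1 ?_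
        exact (((ProjFormula.tensorUnitLeftIso_tmulSec E ⊤ (1 : Γ(X, ⊤)) _).trans (one_smul _ _))).symm
      have h3 : v' = β.hom.app ⊤ v'' := by
        show v' = (β.inv ≫ β.hom).app ⊤ v'
        rw [Iso.inv_hom_id]; rfl
      rw [h3]
      conv_lhs => rw [h2]
      exact congrArg (fun k : (DCoh.toP.obj (Coh.structureModule X) ⊗ DCoh.toP.obj E : CohB1.PMod X) ⟶ _ =>
          k.app (op ⊤) (OX.tsec (DCoh.toP.obj (Coh.structureModule X)) (DCoh.toP.obj E) ⊤ (1 : Γ(X, ⊤))
            ((OX.tensorUnitLeftIso E).hom.app ⊤ v'')))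
        (OX.sheafUnit_natural (β_ (DCoh.toP.obj (Coh.structureModule X)) (DCoh.toP.obj E)).hom)
    refine ⟨e, ?_⟩
    refine (ConcreteCategory.bijective_of_isIso ((((T).obj E).map φ.hom).app ⊤)).1 ?_
    refine he.trans (Eq.trans ?_ (ProjFormula.map_right_tmulSec E φ.hom ⊤ e one').symm)
    refine congrArg (OX.tmulSec E (Coh.structureModule X) ⊤ e) ?_
    show (1 : Γ(X, ⊤)) = (φ.inv ≫ φ.hom).app ⊤ _
    rw [Iso.inv_hom_id]; rfl
  refine ⟨y₀ + (show (CohB1.tensorPre E L).obj (op ⊤) from e ⊗ₜ ((inc I L).app ⊤ one')), ?_⟩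
  simp only [pr, map_add]
  refine (eq_sub_iff_add_eq'.1 ?_)
  refine Eq.trans ?_ hv
  subst he
  exact (ProjFormula.map_right_tmulSec E (inc I L) ⊤ e one').symm

end GrothLib.MulRestr29
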